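import Mathlib
import Groth.Agent.Lib.Helper1.NormGen

set_option autoImplicit false
universe u
open CategoryTheory CategoryTheory.Limits AlgebraicGeometry

namespace Groth.Agent.H8.NormBC

/-- A flat morphism of integral schemes maps the generic point to the generic point. -/
theorem map_genericPoint {X Y : Scheme.{u}} (f : X ⟶ Y) [Flat f] [IsIntegral X] [IsIntegral Y] :
    f (genericPoint X) = genericPoint Y := by
  obtain ⟨x', hx', hfx'⟩ := Flat.generalizingMap f (genericPoint_specializes (f (genericPoint X)))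
  have h1 : x' = genericPoint X := (hx'.antisymm (genericPoint_specializes x')).eq
  rw [← hfx', h1]

/-- Sections of `Spec K(X)` over the preimage of a nonempty affine open `U` are identified with the
function field, compatibly with `Γ(X, U)`. -/
theorem exists_sectionEquiv {X : Scheme.{u}} [IsIntegral X] (U : X.Opens) (hU : IsAffineOpen U)
    [Nonempty U] :
    (X.fromSpecStalk (genericPoint X)) ⁻¹ᵁ U = ⊤ ∧
    ∃ e : Γ(Spec (X.presheaf.stalk (genericPoint X)), (X.fromSpecStalk (genericPoint X)) ⁻¹ᵁ U) ≃+*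
        X.functionField,
      ∀ b : Γ(X, U), e ((X.fromSpecStalk (genericPoint X)).app U b) =
        algebraMap Γ(X, U) X.functionField b := by
  obtain ⟨ξ, hξ⟩ : ∃ t, t = X.fromSpecStalk (genericPoint X) := ⟨_, rfl⟩
  rw [← hξ]
  have hgen : genericPoint X ∈ U :=
    ((genericPoint_spec X).mem_open_set_iff U.isOpen).mpr (by simpa using ‹Nonempty U›)
  have htop : ξ ⁻¹ᵁ U = ⊤ := by
    apply TopologicalSpace.Opens.ext
    apply Set.eq_univ_of_forall
    intro z
    have h1 : ξ z ∈ Set.range ξ := ⟨z, rfl⟩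
    rw [hξ, Scheme.range_fromSpecStalk] at h1
    have h2 := h1.mem_open U.2 hgen
    rw [← hξ] at h2
    exact h2
  refine ⟨htop, ?_⟩
  have : IsIso (homOfLE (le_top : ξ ⁻¹ᵁ U ≤ ⊤)) := ⟨homOfLE htop.ge, rfl, rfl⟩
  let K := X.presheaf.stalk (genericPoint X)
  let j : K ⟶ Γ(Spec K, ξ ⁻¹ᵁ U) :=
    (Scheme.ΓSpecIso K).inv ≫ (Spec K).presheaf.map (homOfLE (le_top : ξ ⁻¹ᵁ U ≤ ⊤)).op
  have : IsIso j := by dsimp only [j]; infer_instance
  have happ : ξ.app U = X.presheaf.germ U (genericPoint X) hgen ≫ j := by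
    subst hξ
    exact Scheme.fromSpecStalk_app hgen
  refine ⟨(asIso j).symm.commRingCatIsoToRingEquiv, fun a => ?_⟩
  change (inv j) ((ξ.app U) a) = X.presheaf.germ U (genericPoint X) hgen a
  rw [happ]
  change (X.presheaf.germ U (genericPoint X) hgen ≫ j ≫ inv j) a = _
  rw [IsIso.hom_inv_id, Category.comp_id]

/-- Two morphisms from an affine scheme landing in a common affine open and agreeing on sections are
equal. -/
theorem eq_of_appLE_eq {R : CommRingCat.{u}} {Z : Scheme.{u}} (a t : Spec R ⟶ Z) (V : Z.Opens)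
    (hV : IsAffineOpen V) (O : (Spec R).Opens) (hO : O = ⊤) (ha : O ≤ a ⁻¹ᵁ V) (ht : O ≤ t ⁻¹ᵁ V)
    (H : a.appLE V O ha = t.appLE V O ht) : a = t := by
  subst hO
  have h1 := IsAffineOpen.SpecMap_appLE_fromSpec a hV (isAffineOpen_top _) ha
  have h2 := IsAffineOpen.SpecMap_appLE_fromSpec t hV (isAffineOpen_top _) ht
  rw [H] at h1
  have h3 := h1.symm.trans h2
  rw [IsAffineOpen.fromSpec_top] at h3
  exact (cancel_epi _).mp h3

theorem appLE_congr' {X Y : Scheme.{u}} {f g : X ⟶ Y} (h : f = g) (U : Y.Opens) (V : X.Opens)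
    (e : V ≤ f ⁻¹ᵁ U) : f.appLE U V e = g.appLE U V (h ▸ e) := by
  subst h; rfl

end Groth.Agent.H8.NormBC
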