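import Mathlib
import Groth.Agent.Lib.Helper1.NormGen

set_option autoImplicit false
universe u

namespace Groth.Agent.H8.NormBC

/-- If `C = K' ⊗[A] B` with `K' = Frac A` and `B` a flat domain over `A`, then `C` is the localization
of `B` at the image of `A∖0`, which consists of nonzerodivisors; in particular `C` is a domain. -/
theorem R1a (A B K' C : Type u) [CommRing A] [IsDomain A] [CommRing B] [IsDomain B] [CommRing K']
    [CommRing C] [Algebra A K'] [IsFractionRing A K'] [Algebra A B] [Module.Flat A B]
    [Algebra K' C] [Algebra B C] [Algebra A C] [IsScalarTower A K' C] [IsScalarTower A B C]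
    [Algebra.IsPushout A K' B C] :
    IsLocalization (Algebra.algebraMapSubmonoid B (nonZeroDivisors A)) C ∧
      Algebra.algebraMapSubmonoid B (nonZeroDivisors A) ≤ nonZeroDivisors B ∧ IsDomain C := by
  have h1 : IsLocalization (Algebra.algebraMapSubmonoid B (nonZeroDivisors A)) C := by
    haveI : Algebra.IsPushout A B K' C := Algebra.IsPushout.symm inferInstance
    exact (Algebra.isLocalization_iff_isPushout (nonZeroDivisors A) K').mpr inferInstance
  have h2 : Algebra.algebraMapSubmonoid B (nonZeroDivisors A) ≤ nonZeroDivisors B := by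
    rintro _ ⟨a, ha, rfl⟩
    apply mem_nonZeroDivisors_of_ne_zero
    intro h0
    have hreg : IsSMulRegular B a := Module.Flat.isSMulRegular_of_nonZeroDivisors ha
    have h3 : (1 : B) = 0 :=
      hreg (show a • (1 : B) = a • (0 : B) by rw [Algebra.smul_def, h0, zero_mul, smul_zero])
    exact one_ne_zero h3
  exact ⟨h1, h2, IsLocalization.isDomain_of_le_nonZeroDivisors C h2⟩

/-- If `C` is a normal domain which is a localization of the domain `B` (at nonzerodivisors) and
`L₀ ≃ Frac B` compatibly, then `C` is integrally closed in `L₀`. -/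
theorem R1b (B C L₀ Lf : Type u) [CommRing B] [IsDomain B] [CommRing C] [IsDomain C]
    [IsIntegrallyClosed C] [CommRing L₀] [Field Lf] [Algebra B C] (M : Submonoid B)
    (hM : M ≤ nonZeroDivisors B) [IsLocalization M C] [Algebra B Lf] [IsFractionRing B Lf]
    [Algebra C L₀] [Algebra B L₀] [IsScalarTower B C L₀] (e : L₀ ≃+* Lf)
    (he : ∀ b : B, e (algebraMap B L₀ b) = algebraMap B Lf b) :
    Function.Bijective (algebraMap C (integralClosure C L₀)) := by
  let _ : Algebra C Lf := (e.toRingHom.comp (algebraMap C L₀)).toAlgebra
  have : IsScalarTower B C Lf := .of_algebraMap_eq fun b => by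
    change algebraMap B Lf b = e (algebraMap C L₀ (algebraMap B C b))
    rw [← IsScalarTower.algebraMap_apply, he]
  have : IsFractionRing C Lf :=
    IsFractionRing.isFractionRing_of_isDomain_of_isLocalization M C Lf
  exact Groth.Agent.Lib.Helper1.NormGen.bijective_algebraMap_integralClosure (A := C) (K := Lf) e
    (fun _ => rfl)

end Groth.Agent.H8.NormBC
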