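import Mathlib
import Groth.Agent.Lib.Helper8.NormBC.Gen

set_option autoImplicit false
universe u
open CategoryTheory CategoryTheory.Limits AlgebraicGeometry

namespace Groth.Agent.H8.NormBC

/-- If the sections of `Spec L` over the preimage of the affine open `U` form the fraction field of
`Γ(X, U)`, then a section of the normalization over `ξ : Spec L ⟶ X` is the canonical one. -/
theorem section_unique_aux {X : Scheme.{u}} [IsIntegral X] {L : CommRingCat.{u}} (ξ : Spec L ⟶ X)
    [QuasiCompact ξ] [QuasiSeparated ξ] (U : X.Opens) (hU : IsAffineOpen U) [Nonempty U]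
    (Lf : Type u) [Field Lf] [Algebra Γ(X, U) Lf] [IsFractionRing Γ(X, U) Lf]
    (htop : ξ ⁻¹ᵁ U = ⊤) (e : Γ(Spec L, ξ ⁻¹ᵁ U) ≃+* Lf)
    (he : ∀ b, e (ξ.app U b) = algebraMap Γ(X, U) Lf b)
    (a : Spec L ⟶ ξ.normalization) (ha : a ≫ ξ.fromNormalization = ξ) :
    a = ξ.toNormalization := by
  have hV : IsAffineOpen (ξ.fromNormalization ⁻¹ᵁ U) := hU.preimage ξ.fromNormalization
  have haV : ξ ⁻¹ᵁ U ≤ a ⁻¹ᵁ (ξ.fromNormalization ⁻¹ᵁ U) := by
    rw [← Scheme.Hom.comp_preimage, ha]
  have htV : ξ ⁻¹ᵁ U ≤ ξ.toNormalization ⁻¹ᵁ (ξ.fromNormalization ⁻¹ᵁ U) := by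
    rw [← Scheme.Hom.comp_preimage, Scheme.Hom.toNormalization_fromNormalization]
  refine eq_of_appLE_eq a ξ.toNormalization _ hV (ξ ⁻¹ᵁ U) htop haV htV ?_
  letI := (ξ.app U).hom.toAlgebra
  have hinj : Function.Injective
      (ξ.toNormalization.appLE (ξ.fromNormalization ⁻¹ᵁ U) (ξ ⁻¹ᵁ U) htV).hom := by
    have h1 : (ξ.normalizationObjIso hU).hom ≫ CommRingCat.ofHom (Subalgebra.val _).toRingHom =
        ξ.toNormalization.appLE (ξ.fromNormalization ⁻¹ᵁ U) (ξ ⁻¹ᵁ U) htV :=
      ξ.normalizationObjIso_hom_val hU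
    rw [← h1]
    intro x y hxy
    have h2 : (ξ.normalizationObjIso hU).hom x = (ξ.normalizationObjIso hU).hom y :=
      Subtype.val_injective hxy
    exact ((ConcreteCategory.isIso_iff_bijective (ξ.normalizationObjIso hU).hom).mp
      inferInstance).1 h2
  have hνa : ξ.fromNormalization.app U ≫ a.appLE (ξ.fromNormalization ⁻¹ᵁ U) (ξ ⁻¹ᵁ U) haV =
      ξ.app U := by
    rw [Scheme.Hom.app_eq_appLE, Scheme.Hom.appLE_comp_appLE, Scheme.Hom.app_eq_appLE]
    exact appLE_congr' ha _ _ _
  have hνt : ξ.fromNormalization.app U ≫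
      ξ.toNormalization.appLE (ξ.fromNormalization ⁻¹ᵁ U) (ξ ⁻¹ᵁ U) htV = ξ.app U := by
    rw [Scheme.Hom.app_eq_appLE, Scheme.Hom.appLE_comp_appLE, Scheme.Hom.app_eq_appLE]
    exact appLE_congr' (Scheme.Hom.toNormalization_fromNormalization ξ) _ _ _
  generalize a.appLE (ξ.fromNormalization ⁻¹ᵁ U) (ξ ⁻¹ᵁ U) haV = a' at hνa ⊢
  generalize ξ.toNormalization.appLE (ξ.fromNormalization ⁻¹ᵁ U) (ξ ⁻¹ᵁ U) htV = t' at hνt hinj ⊢
  have hta (b) : a' (ξ.fromNormalization.app U b) = ξ.app U b := congr($hνa b)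
  have htt (b) : t' (ξ.fromNormalization.app U b) = ξ.app U b := congr($hνt b)
  ext s
  obtain ⟨⟨c, b⟩, hcb⟩ := IsLocalization.surj (nonZeroDivisors Γ(X, U)) (e (t' s))
  dsimp only at hcb
  have hb0 : algebraMap Γ(X, U) Lf b ≠ 0 := by
    intro h0
    exact nonZeroDivisors.coe_ne_zero b
      ((IsFractionRing.injective Γ(X, U) Lf) (by rw [h0, map_zero]))
  have h1 : t' (s * ξ.fromNormalization.app U b) = t' (ξ.fromNormalization.app U c) := by
    apply e.injective
    rw [map_mul, map_mul, htt, htt, he, he, hcb]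
  have h2 : s * ξ.fromNormalization.app U b = ξ.fromNormalization.app U c := hinj h1
  have h3 : a' s * ξ.app U b = ξ.app U c := by
    rw [← hta, ← hta, ← map_mul, h2]
  apply e.injective
  apply mul_right_cancel₀ hb0
  rw [hcb, ← he, ← he, ← map_mul, h3]

/-- A section over the generic point of the normalization of an integral scheme in its function
field is the canonical one. -/
theorem section_unique {X : Scheme.{u}} [IsIntegral X]
    [QuasiCompact (X.fromSpecStalk (genericPoint X))]
    [QuasiSeparated (X.fromSpecStalk (genericPoint X))]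
    (a : Spec (X.presheaf.stalk (genericPoint X)) ⟶
      (X.fromSpecStalk (genericPoint X)).normalization)
    (ha : a ≫ (X.fromSpecStalk (genericPoint X)).fromNormalization =
      X.fromSpecStalk (genericPoint X)) :
    a = (X.fromSpecStalk (genericPoint X)).toNormalization := by
  obtain ⟨_, ⟨U, hU, rfl⟩, hxU, -⟩ := X.isBasis_affineOpens.exists_subset_of_mem_open
    (Set.mem_univ (genericPoint X)) isOpen_univ
  haveI : Nonempty U := ⟨⟨_, hxU⟩⟩
  obtain ⟨htop, e, he⟩ := exists_sectionEquiv U hU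
  haveI := functionField_isFractionRing_of_isAffineOpen X U hU
  exact section_unique_aux _ U hU X.functionField htop e he a ha

/-- Comparison of normalizations: if `W` is its own normalization in `T` (via `j`), then the
normalizations of `S` in `W` and in `T` agree. -/
theorem exists_normalization_iso {S W T : Scheme.{u}} (p : W ⟶ S) (j : T ⟶ W) (q : T ⟶ S)
    (hq : q = j ≫ p) [QuasiCompact j] [QuasiSeparated j] [IsIso j.fromNormalization]
    [IsReduced T] [QuasiCompact q] [QuasiSeparated q] [QuasiCompact p] [QuasiSeparated p] :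
    ∃ φ : q.normalization ≅ p.normalization,
      φ.hom ≫ p.fromNormalization = q.fromNormalization := by
  subst hq
  haveI : IsDominant j := by
    have : IsDominant (j.toNormalization ≫ j.fromNormalization) := inferInstance
    rwa [Scheme.Hom.toNormalization_fromNormalization] at this
  haveI : IsReduced W := isReduced_of_isOpenImmersion (inv j.fromNormalization)
  haveI : IsIntegralHom (pullback.fst p (j ≫ p).fromNormalization) :=
    MorphismProperty.pullback_fst (P := @IsIntegralHom) _ _ inferInstance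
  have hσ : j ≫ p = (j ≫ p).toNormalization ≫ (j ≫ p).fromNormalization :=
    (Scheme.Hom.toNormalization_fromNormalization _).symm
  obtain ⟨σ', hσ'⟩ : ∃ σ' : T ⟶ pullback p (j ≫ p).fromNormalization,
      σ' = pullback.lift j (j ≫ p).toNormalization hσ := ⟨_, rfl⟩
  have hσ1 : σ' ≫ pullback.fst _ _ = j := by rw [hσ']; exact pullback.lift_fst _ _ _
  have hσ2 : σ' ≫ pullback.snd _ _ = (j ≫ p).toNormalization := by
    rw [hσ']; exact pullback.lift_snd _ _ _
  obtain ⟨s, hs⟩ : ∃ s : W ⟶ pullback p (j ≫ p).fromNormalization,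
      s = inv j.fromNormalization ≫ j.normalizationDesc σ' (pullback.fst _ _) hσ1.symm :=
    ⟨_, rfl⟩
  have hs1 : s ≫ pullback.fst _ _ = 𝟙 W := by
    rw [hs, Category.assoc, Scheme.Hom.normalizationDesc_comp, IsIso.inv_hom_id]
  have hs2 : j ≫ s = σ' := by
    have h1 : j ≫ inv j.fromNormalization = j.toNormalization := by
      rw [IsIso.comp_inv_eq, Scheme.Hom.toNormalization_fromNormalization]
    rw [hs, reassoc_of% h1, Scheme.Hom.toNormalization_normalizationDesc]
  obtain ⟨ι, hι⟩ : ∃ ι : W ⟶ (j ≫ p).normalization, ι = s ≫ pullback.snd _ _ := ⟨_, rfl⟩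
  have hι1 : ι ≫ (j ≫ p).fromNormalization = p := by
    rw [hι, Category.assoc, ← pullback.condition, reassoc_of% hs1]
  have hι2 : j ≫ ι = (j ≫ p).toNormalization := by rw [hι, reassoc_of% hs2, hσ2]
  have Ha : j ≫ p = (j ≫ p.toNormalization) ≫ p.fromNormalization := by
    rw [Category.assoc, Scheme.Hom.toNormalization_fromNormalization]
  obtain ⟨a, ha⟩ : ∃ a, a = (j ≫ p).normalizationDesc (j ≫ p.toNormalization)
      p.fromNormalization Ha := ⟨_, rfl⟩
  obtain ⟨b, hb⟩ : ∃ b, b = p.normalizationDesc ι (j ≫ p).fromNormalization hι1.symm :=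
    ⟨_, rfl⟩
  have ha1 : (j ≫ p).toNormalization ≫ a = j ≫ p.toNormalization := by
    rw [ha]; exact Scheme.Hom.toNormalization_normalizationDesc _ _ _ _
  have ha2 : a ≫ p.fromNormalization = (j ≫ p).fromNormalization := by
    rw [ha]; exact Scheme.Hom.normalizationDesc_comp _ _ _ _
  have hb1 : p.toNormalization ≫ b = ι := by
    rw [hb]; exact Scheme.Hom.toNormalization_normalizationDesc _ _ _ _
  have hb2 : b ≫ (j ≫ p).fromNormalization = p.fromNormalization := by
    rw [hb]; exact Scheme.Hom.normalizationDesc_comp _ _ _ _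
  have hιa : ι ≫ a = p.toNormalization := by
    apply ext_of_isDominant_of_isSeparated p.fromNormalization ?_ j ?_
    · rw [Category.assoc, ha2, hι1, Scheme.Hom.toNormalization_fromNormalization]
    · rw [reassoc_of% hι2, ha1]
  have hab : a ≫ b = 𝟙 _ := by
    apply Scheme.Hom.normalization.hom_ext (f := j ≫ p) (a ≫ b) (𝟙 _)
      (j ≫ p).fromNormalization
    · rw [reassoc_of% ha1, hb1, hι2, Category.comp_id]
    · rw [Category.assoc, hb2, ha2]
    · rw [Category.id_comp]
  have hba : b ≫ a = 𝟙 _ := by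
    apply Scheme.Hom.normalization.hom_ext (f := p) (b ≫ a) (𝟙 _) p.fromNormalization
    · rw [reassoc_of% hb1, hιa, Category.comp_id]
    · rw [Category.assoc, ha2, hb2]
    · rw [Category.id_comp]
  exact ⟨⟨a, b, hab, hba⟩, ha2⟩

end Groth.Agent.H8.NormBC
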