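import Mathlib
import Groth.Agent.Lib.Helper8.NormBC.Ring
import Groth.Agent.Lib.Helper8.NormBC.Sec
import Groth.Agent.Lib.Helper8.SmoothNormal

set_option autoImplicit false
universe u
open CategoryTheory CategoryTheory.Limits AlgebraicGeometry

namespace Groth.Agent.H8.NormBC

/-- The generic fibre `Spec K ×_Y X` of a smooth morphism of integral schemes is its own
normalization in `Spec L` (`K`, `L` the function fields). Stated for abstract `ζ`, `ξ` with the
properties of the generic-point morphisms. -/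
theorem isIso_fromNormalization_aux {X Y : Scheme.{u}} (f : X ⟶ Y) [Smooth f] [IsIntegral X]
    [IsIntegral Y] {K L : CommRingCat.{u}} (ζ : Spec K ⟶ Y) (ξ : Spec L ⟶ X)
    (Kf : Type u) [Field Kf] (Lf : Type u) [Field Lf]
    (HY : ∀ V : Y.Opens, IsAffineOpen V → Nonempty V →
      ∃ (_ : Algebra Γ(Y, V) Kf) (_ : IsFractionRing Γ(Y, V) Kf), ζ ⁻¹ᵁ V = ⊤ ∧
        ∃ e : Γ(Spec K, ζ ⁻¹ᵁ V) ≃+* Kf, ∀ b, e (ζ.app V b) = algebraMap Γ(Y, V) Kf b)
    (HX : ∀ U : X.Opens, IsAffineOpen U → Nonempty U →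
      ∃ (_ : Algebra Γ(X, U) Lf) (_ : IsFractionRing Γ(X, U) Lf), ξ ⁻¹ᵁ U = ⊤ ∧
        ∃ e : Γ(Spec L, ξ ⁻¹ᵁ U) ≃+* Lf, ∀ b, e (ξ.app U b) = algebraMap Γ(X, U) Lf b)
    (h : Spec L ⟶ pullback ζ f) (hh : h ≫ pullback.snd ζ f = ξ)
    [QuasiCompact h] [QuasiSeparated h] : IsIso h.fromNormalization := by
  apply IsZariskiLocalAtTarget.of_forall_exists_morphismRestrict (P := .isomorphisms _) fun z ↦ ?_
  obtain ⟨_, ⟨V, hV, rfl⟩, hzV, -⟩ := Y.isBasis_affineOpens.exists_subset_of_mem_open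
    (Set.mem_univ (f (pullback.snd ζ f z))) isOpen_univ
  obtain ⟨_, ⟨U, hU, rfl⟩, hzU, hUV : U ≤ f ⁻¹ᵁ V⟩ :=
    X.isBasis_affineOpens.exists_subset_of_mem_open (a := pullback.snd ζ f z) hzV (f ⁻¹ᵁ V).2
  have hneV : Nonempty V := ⟨⟨_, hzV⟩⟩
  have hneU : Nonempty U := ⟨⟨_, hzU⟩⟩
  obtain ⟨algY, fracY, htopY, eY, heY⟩ := HY V hV hneV
  obtain ⟨algX, fracX, htopX, eX, heX⟩ := HX U hU hneU
  have hK' : IsAffineOpen (ζ ⁻¹ᵁ V) := by rw [htopY]; exact isAffineOpen_top _
  have H : IsPullback (pullback.fst ζ f) (pullback.snd ζ f) ζ f := .of_hasPullback ζ f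
  obtain ⟨W, hWdef⟩ : ∃ W : (pullback ζ f).Opens,
      W = pullback.fst ζ f ⁻¹ᵁ (ζ ⁻¹ᵁ V) ⊓ pullback.snd ζ f ⁻¹ᵁ U := ⟨_, rfl⟩
  have hWfst : W ≤ pullback.fst ζ f ⁻¹ᵁ (ζ ⁻¹ᵁ V) := hWdef ▸ inf_le_left
  have hWsnd : W ≤ pullback.snd ζ f ⁻¹ᵁ U := hWdef ▸ inf_le_right
  have hW : IsAffineOpen W := by
    have : IsAffine _ := hV
    have : IsAffine _ := hU
    have : IsAffine _ := hK'
    exact .of_isIso (Scheme.Hom.isPullback_resLE H hUV le_rfl hWdef).isoPullback.hom
  have hzW : z ∈ W := by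
    rw [hWdef]
    refine ⟨?_, hzU⟩
    show pullback.fst ζ f z ∈ ζ ⁻¹ᵁ V
    rw [htopY]; trivial
  refine ⟨W, hzW, (isIso_morphismRestrict_iff_isIso_app _ hW).mpr ?_⟩
  rw [Scheme.Hom.fromNormalization_app _ hW]
  have hpo : IsPushout (ζ.app V) (f.appLE V U hUV)
      ((pullback.fst ζ f).appLE (ζ ⁻¹ᵁ V) W hWfst) ((pullback.snd ζ f).appLE U W hWsnd) := by
    have := isIso_pushoutSection_of_isAffineOpen H hUV le_rfl hWdef hV hU hK'
    rw [Scheme.Hom.app_eq_appLE]
    exact (isIso_pushoutSection_iff H hUV le_rfl hWdef).mp this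
  algebraize [(ζ.app V).hom, (f.appLE V U hUV).hom,
    ((pullback.fst ζ f).appLE (ζ ⁻¹ᵁ V) W hWfst).hom, ((pullback.snd ζ f).appLE U W hWsnd).hom,
    ((f.appLE V U hUV) ≫ ((pullback.snd ζ f).appLE U W hWsnd)).hom]
  have : IsScalarTower Γ(Y, V) Γ(Spec K, ζ ⁻¹ᵁ V) Γ(pullback ζ f, W) :=
    .of_algebraMap_eq' (congr($(hpo.w).hom)).symm
  have : IsScalarTower Γ(Y, V) Γ(X, U) Γ(pullback ζ f, W) := .of_algebraMap_eq' rfl
  have hAP : Algebra.IsPushout Γ(Y, V) Γ(Spec K, ζ ⁻¹ᵁ V) Γ(X, U) Γ(pullback ζ f, W) :=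
    CommRingCat.isPushout_iff_isPushout.mp hpo
  have : IsFractionRing Γ(Y, V) Γ(Spec K, ζ ⁻¹ᵁ V) :=
    IsLocalization.isLocalization_of_algEquiv (nonZeroDivisors Γ(Y, V))
      (AlgEquiv.ofRingEquiv (f := eY.symm) fun a => by
        rw [← heY, RingEquiv.symm_apply_apply]; rfl)
  have hsmβ : (f.appLE V U hUV).hom.Smooth := f.smooth_appLE hV hU hUV
  have : Algebra.Smooth Γ(Y, V) Γ(X, U) := hsmβ
  have : Module.Flat Γ(Y, V) Γ(X, U) := inferInstance
  obtain ⟨hloc, hM, hdomC⟩ := R1a Γ(Y, V) Γ(X, U) Γ(Spec K, ζ ⁻¹ᵁ V) Γ(pullback ζ f, W)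
  have hic : IsIntegrallyClosed Γ(pullback ζ f, W) := by
    have hγsm : ((pullback.fst ζ f).appLE (ζ ⁻¹ᵁ V) W hWfst).hom.Smooth :=
      (pullback.fst ζ f).smooth_appLE hK' hW hWfst
    let φ : Kf →+* Γ(pullback ζ f, W) :=
      ((pullback.fst ζ f).appLE (ζ ⁻¹ᵁ V) W hWfst).hom.comp eY.symm.toRingHom
    have hφ : φ.Smooth :=
      RingHom.Smooth.comp (RingHom.Smooth.of_bijective eY.symm.bijective) hγsm
    algebraize [φ]
    have : Algebra.Smooth Kf Γ(pullback ζ f, W) := hφ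
    exact SmoothNormal.isIntegrallyClosed_of_smooth_field Kf Γ(pullback ζ f, W)
  have hWtop : h ⁻¹ᵁ W = ⊤ := by
    rw [eq_top_iff]
    intro x _
    rw [hWdef]
    refine ⟨?_, ?_⟩
    · show pullback.fst ζ f (h x) ∈ ζ ⁻¹ᵁ V
      rw [htopY]; trivial
    · show pullback.snd ζ f (h x) ∈ U
      have h1 : x ∈ ξ ⁻¹ᵁ U := by rw [htopX]; trivial
      rw [← hh] at h1
      exact h1
  have hle : ξ ⁻¹ᵁ U ≤ h ⁻¹ᵁ W := by rw [hWtop]; exact le_top
  have hge : h ⁻¹ᵁ W ≤ ξ ⁻¹ᵁ U := by rw [htopX]; exact le_top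
  have : IsIso (homOfLE hle) := ⟨homOfLE hge, rfl, rfl⟩
  let r : Γ(Spec L, h ⁻¹ᵁ W) ⟶ Γ(Spec L, ξ ⁻¹ᵁ U) := (Spec L).presheaf.map (homOfLE hle).op
  have : IsIso r := by dsimp only [r]; infer_instance
  let e : Γ(Spec L, h ⁻¹ᵁ W) ≃+* Lf := (asIso r).commRingCatIsoToRingEquiv.trans eX
  let _ := (h.app W).hom.toAlgebra
  let _ : Algebra Γ(X, U) Γ(Spec L, h ⁻¹ᵁ W) :=
    (((pullback.snd ζ f).appLE U W hWsnd) ≫ h.app W).hom.toAlgebra
  have : IsScalarTower Γ(X, U) Γ(pullback ζ f, W) Γ(Spec L, h ⁻¹ᵁ W) := .of_algebraMap_eq' rfl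
  have key : (pullback.snd ζ f).appLE U W hWsnd ≫ h.appLE W (ξ ⁻¹ᵁ U) hle = ξ.app U := by
    rw [Scheme.Hom.appLE_comp_appLE, Scheme.Hom.app_eq_appLE]
    exact appLE_congr' hh _ _ _
  have he : ∀ b : Γ(X, U), e (algebraMap Γ(X, U) Γ(Spec L, h ⁻¹ᵁ W) b) =
      algebraMap Γ(X, U) Lf b := by
    intro b
    rw [← heX]
    change eX (r (h.app W ((pullback.snd ζ f).appLE U W hWsnd b))) = eX (ξ.app U b)
    congr 1
    exact congr($key b)
  have hbij := R1b Γ(X, U) Γ(pullback ζ f, W) Γ(Spec L, h ⁻¹ᵁ W) Lf _ hM e he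
  have : IsIso (CommRingCat.ofHom (algebraMap Γ(pullback ζ f, W)
      (integralClosure Γ(pullback ζ f, W) Γ(Spec L, h ⁻¹ᵁ W)))) :=
    (ConcreteCategory.isIso_iff_bijective _).2 hbij
  infer_instance

/-- Existence: the normalization of `X` is the base change of the normalization of `Y` along a
smooth morphism `X ⟶ Y` of integral schemes. -/
theorem exists_iso {X Y : Scheme.{u}} (f : X ⟶ Y) [Smooth f] [IsIntegral X] [IsIntegral Y]
    [QuasiCompact (X.fromSpecStalk (genericPoint X))]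
    [QuasiSeparated (X.fromSpecStalk (genericPoint X))]
    [QuasiCompact (Y.fromSpecStalk (genericPoint Y))]
    [QuasiSeparated (Y.fromSpecStalk (genericPoint Y))] :
    ∃ e : (X.fromSpecStalk (genericPoint X)).normalization ≅
        pullback f (Y.fromSpecStalk (genericPoint Y)).fromNormalization,
      e.hom ≫ pullback.fst f (Y.fromSpecStalk (genericPoint Y)).fromNormalization =
        (X.fromSpecStalk (genericPoint X)).fromNormalization := by
  have hfη : f (genericPoint X) = genericPoint Y := map_genericPoint f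
  obtain ⟨g, hg⟩ : ∃ g : Spec (X.presheaf.stalk (genericPoint X)) ⟶
      Spec (Y.presheaf.stalk (genericPoint Y)),
      g ≫ Y.fromSpecStalk (genericPoint Y) = X.fromSpecStalk (genericPoint X) ≫ f := by
    refine ⟨Spec.map (f.stalkMap (genericPoint X)) ≫
      Spec.map (Y.presheaf.stalkSpecializes (specializes_of_eq hfη)), ?_⟩
    rw [Category.assoc, Scheme.SpecMap_stalkSpecializes_fromSpecStalk,
      Scheme.SpecMap_stalkMap_fromSpecStalk]
  obtain ⟨h, hh⟩ : ∃ h : Spec (X.presheaf.stalk (genericPoint X)) ⟶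
      pullback (Y.fromSpecStalk (genericPoint Y)) f,
      h ≫ pullback.snd (Y.fromSpecStalk (genericPoint Y)) f =
        X.fromSpecStalk (genericPoint X) :=
    ⟨pullback.lift g _ hg, pullback.lift_snd _ _ _⟩
  haveI : QuasiCompact (h ≫ pullback.snd (Y.fromSpecStalk (genericPoint Y)) f) := by
    rw [hh]; infer_instance
  haveI : QuasiSeparated (h ≫ pullback.snd (Y.fromSpecStalk (genericPoint Y)) f) := by
    rw [hh]; infer_instance
  haveI : QuasiSeparated h :=
    QuasiSeparated.of_comp h (pullback.snd (Y.fromSpecStalk (genericPoint Y)) f)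
  haveI : QuasiCompact h :=
    QuasiCompact.of_comp h (pullback.snd (Y.fromSpecStalk (genericPoint Y)) f)
  haveI : IsIso h.fromNormalization :=
    isIso_fromNormalization_aux f (Y.fromSpecStalk (genericPoint Y))
      (X.fromSpecStalk (genericPoint X)) Y.functionField X.functionField
      (fun V hV hne => by
        haveI := hne
        exact ⟨inferInstance, functionField_isFractionRing_of_isAffineOpen Y V hV,
          exists_sectionEquiv V hV⟩)
      (fun U hU hne => by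
        haveI := hne
        exact ⟨inferInstance, functionField_isFractionRing_of_isAffineOpen X U hU,
          exists_sectionEquiv U hU⟩)
      h hh
  obtain ⟨φ, hφ⟩ := exists_normalization_iso (pullback.snd (Y.fromSpecStalk (genericPoint Y)) f) h
    (X.fromSpecStalk (genericPoint X)) hh.symm
  refine ⟨φ ≪≫ asIso ((Y.fromSpecStalk (genericPoint Y)).normalizationPullback f) ≪≫
    pullbackSymmetry _ _, ?_⟩
  simp only [Iso.trans_hom, asIso_hom, Category.assoc, pullbackSymmetry_hom_comp_fst,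
    Scheme.Hom.normalizationPullback_snd, hφ]

/-- Uniqueness: an isomorphism out of the normalization of an integral scheme `X` over `X` is
unique. -/
theorem iso_unique {X : Scheme.{u}} [IsIntegral X]
    [QuasiCompact (X.fromSpecStalk (genericPoint X))]
    [QuasiSeparated (X.fromSpecStalk (genericPoint X))] {P : Scheme.{u}} (π : P ⟶ X)
    (e₁ e₂ : (X.fromSpecStalk (genericPoint X)).normalization ≅ P)
    (h₁ : e₁.hom ≫ π = (X.fromSpecStalk (genericPoint X)).fromNormalization)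
    (h₂ : e₂.hom ≫ π = (X.fromSpecStalk (genericPoint X)).fromNormalization) : e₁ = e₂ := by
  apply Iso.ext
  have hτ : (e₁.hom ≫ e₂.inv) ≫ (X.fromSpecStalk (genericPoint X)).fromNormalization =
      (X.fromSpecStalk (genericPoint X)).fromNormalization := by
    have h3 : e₂.inv ≫ (X.fromSpecStalk (genericPoint X)).fromNormalization = π := by
      rw [← h₂, Iso.inv_hom_id_assoc]
    rw [Category.assoc, h3, h₁]
  have hsec : (X.fromSpecStalk (genericPoint X)).toNormalization ≫ e₁.hom ≫ e₂.inv =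
      (X.fromSpecStalk (genericPoint X)).toNormalization := by
    apply section_unique
    rw [Category.assoc, hτ]
    exact Scheme.Hom.toNormalization_fromNormalization _
  have hid : e₁.hom ≫ e₂.inv = 𝟙 _ := by
    apply Scheme.Hom.normalization.hom_ext (f := X.fromSpecStalk (genericPoint X)) _ _
      (X.fromSpecStalk (genericPoint X)).fromNormalization
    · rw [hsec, Category.comp_id]
    · exact hτ
    · rw [Category.id_comp]
  calc e₁.hom = (e₁.hom ≫ e₂.inv) ≫ e₂.hom := by simp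
    _ = e₂.hom := by rw [hid, Category.id_comp]

end Groth.Agent.H8.NormBC
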